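import Mathlib
import Cfsg.Prelude
import Cfsg.Agent.Chars.Count
import Cfsg.Agent.Chars.Construct
import Cfsg.Agent.Chars.Clifford
import Cfsg.Agent.Chars.PrimePairs

/-!
# An element at which exactly one nonlinear irreducible character is nonzero: character identities
-/

set_option autoImplicit false
set_option linter.unusedSectionVars false
set_option linter.style.haveILetI false

namespace Cfsg.Lib.Chars.OneNonvanishing

open Subgroup
open scoped ComplexConjugate commutatorElement

universe u

variable {G : Type u} [Group G] [Finite G]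

/-- The linear characters. -/
noncomputable def linSum (u : G) : ℂ :=
  ∑ ψ : Cfsg.IrrCharacter G, if (ψ : G → ℂ) 1 = 1 then (ψ : G → ℂ) u else 0

theorem linSum_of_mem {u : G} (hu : u ∈ commutator G) :
    linSum u = ((commutator G).index : ℂ) := by
  classical
  have h : ∀ ψ : Cfsg.IrrCharacter G,
      (if (ψ : G → ℂ) 1 = 1 then (ψ : G → ℂ) u else 0) = if (ψ : G → ℂ) 1 = 1 then 1 else 0 := by
    intro ψ
    split_ifs with h1
    · obtain ⟨l, hl⟩ := exists_hom_of_deg_one (isCharacter_of_irr ψ.2) h1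
      rw [hl]
      show ((l u : ℂˣ) : ℂ) = 1
      rw [show l u = 1 from Abelianization.commutator_subset_ker l hu, Units.val_one]
    · rfl
  rw [linSum, Finset.sum_congr rfl fun ψ _ => h ψ, Finset.sum_boole, ← PrimePairs.card_linear G,
    Nat.card_eq_fintype_card, Fintype.card_subtype]

theorem linSum_of_not_mem {u : G} (hu : u ∉ commutator G) : linSum u = 0 := by
  classical
  set f := QuotientGroup.mk' (commutator G) with hf
  have hne : ¬ IsConj (f u) (f 1) := by
    rw [map_one, isConj_one_left]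
    exact fun e => hu ((QuotientGroup.eq_one_iff u).mp e)
  rw [isConj_iff_forall_irr] at hne
  push Not at hne
  obtain ⟨φ, hφ⟩ := hne
  have hcomm : ∀ a b : G ⧸ commutator G, a * b = b * a := by
    intro a b
    induction a using QuotientGroup.induction_on with
    | _ a =>
      induction b using QuotientGroup.induction_on with
      | _ b =>
        rw [← QuotientGroup.mk_mul, ← QuotientGroup.mk_mul, QuotientGroup.eq,
          show (a * b)⁻¹ * (b * a) = ⁅b⁻¹, a⁻¹⁆ by rw [commutatorElement_def]; group, _root_.commutator_def]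
        exact commutator_mem_commutator (mem_top _) (mem_top _)
  have hφ1 := irr_deg_one_of_comm hcomm φ.2
  obtain ⟨l, hl⟩ := exists_hom_of_deg_one (isCharacter_of_irr φ.2) hφ1
  set m : G →* ℂˣ := l.comp f with hm
  have hmu : (m u : ℂ) ≠ 1 := by
    rw [hl] at hφ
    simpa [hm] using hφ
  let T : Cfsg.IrrCharacter G → Cfsg.IrrCharacter G := fun ψ =>
    ⟨fun x => (m x : ℂ) * (ψ : G → ℂ) x, IsIrrCharacter.mul_linear ψ.2 m⟩
  have hT : Function.Bijective T := Finite.injective_iff_bijective.mp fun a b e =>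
    Subtype.ext (funext fun x => mul_left_cancel₀ (Units.ne_zero (m x))
      (congrFun (congrArg Subtype.val e) x))
  have key : (m u : ℂ) * linSum u = linSum u := by
    rw [linSum, Finset.mul_sum]
    refine Fintype.sum_bijective T hT _ _ fun ψ => ?_
    have h1 : (T ψ : G → ℂ) 1 = (ψ : G → ℂ) 1 := by
      show (m 1 : ℂ) * _ = _
      rw [map_one, Units.val_one, one_mul]
    rw [h1, mul_ite, mul_zero]
  have : ((m u : ℂ) - 1) * linSum u = 0 := by rw [sub_mul, key, one_mul, sub_self]
  exact (mul_eq_zero.mp this).resolve_left (sub_ne_zero.mpr hmu)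

variable {g : G} {χ : Cfsg.IrrCharacter G}

/-- `χ` is the only nonlinear irreducible character that is nonzero at `g`. -/
structure Only (g : G) (χ : Cfsg.IrrCharacter G) : Prop where
  deg_ne : (χ : G → ℂ) 1 ≠ 1
  ne_zero : (χ : G → ℂ) g ≠ 0
  other : ∀ ψ : Cfsg.IrrCharacter G, (ψ : G → ℂ) 1 ≠ 1 → ψ ≠ χ → (ψ : G → ℂ) g = 0
  not_central : g ∉ center G

open scoped Classical in
/-- The column sum against `g`. -/
theorem Only.column (h : Only g χ) (a : G) :
    (if IsConj a g then (Nat.card (centralizer ({a} : Set G)) : ℂ) else 0) =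
      linSum (a * g⁻¹) + (χ : G → ℂ) a * conj ((χ : G → ℂ) g) := by
  rw [← second_orthogonality a g, linSum]
  have hsplit : (χ : G → ℂ) a * conj ((χ : G → ℂ) g) = ∑ ψ : Cfsg.IrrCharacter G,
      if ψ = χ then (ψ : G → ℂ) a * conj ((ψ : G → ℂ) g) else 0 := by
    simp
  rw [hsplit, ← Finset.sum_add_distrib]
  refine Finset.sum_congr rfl fun ψ _ => ?_
  by_cases h1 : (ψ : G → ℂ) 1 = 1
  · have hne : ψ ≠ χ := fun e => h.deg_ne (e ▸ h1)
    obtain ⟨l, hl⟩ := exists_hom_of_deg_one (isCharacter_of_irr ψ.2) h1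
    rw [if_pos h1, if_neg hne, add_zero]
    have hinv := IsCharacter.conj_inv (isCharacter_of_irr ψ.2) g
    rw [← hinv, hl]
    simp only [map_mul, Units.val_mul]
  · rw [if_neg h1, zero_add]
    split_ifs with h2
    · rfl
    · rw [h.other ψ h1 h2, map_zero, mul_zero]

theorem Only.ne_one (h : Only g χ) : g ≠ 1 := fun e => h.not_central (e ▸ one_mem _)

theorem Only.mem_commutator (h : Only g χ) : g ∈ commutator G := by
  by_contra hg
  have hc := h.column 1
  rw [if_neg (fun hh => h.ne_one (isConj_one_right.mp hh)), one_mul,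
    linSum_of_not_mem (fun hh => hg (by simpa using inv_mem hh)), zero_add] at hc
  rcases mul_eq_zero.mp hc.symm with h0 | h0
  · exact IsIrrCharacter.apply_one_ne_zero χ.2 h0
  · exact h.ne_zero (by simpa using h0)

theorem Only.value (h : Only g χ) :
    (χ : G → ℂ) g = -(((commutator G).index : ℂ) / (χ : G → ℂ) 1) := by
  have hc := h.column 1
  rw [if_neg (fun hh => h.ne_one (isConj_one_right.mp hh)), one_mul,
    linSum_of_mem (inv_mem h.mem_commutator)] at hc
  have h1 := IsIrrCharacter.apply_one_ne_zero χ.2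
  have hd := irr_apply_one_eq_deg χ
  have hc' := congrArg conj hc
  rw [map_zero, map_add, map_mul, Complex.conj_conj, Complex.conj_natCast] at hc'
  have hd' : conj ((χ : G → ℂ) 1) = (χ : G → ℂ) 1 := by rw [hd, Complex.conj_natCast]
  rw [hd'] at hc'
  rw [neg_div', eq_div_iff h1]
  linear_combination -hc'

/-- The values away from the class of `g`. -/
theorem Only.value_off (h : Only g χ) {a : G} (ha : ¬ IsConj g a) :
    (a ∈ commutator G → (χ : G → ℂ) a = (χ : G → ℂ) 1) ∧
      (a ∉ commutator G → (χ : G → ℂ) a = 0) := by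
  have hc := h.column a
  rw [if_neg (fun hh => ha hh.symm)] at hc
  have hne : conj ((χ : G → ℂ) g) ≠ 0 := fun e => h.ne_zero (by simpa using e)
  refine ⟨fun hm => ?_, fun hm => ?_⟩
  · have h0 := h.column 1
    rw [if_neg (fun hh => h.ne_one (isConj_one_right.mp hh)), one_mul,
      linSum_of_mem (inv_mem h.mem_commutator)] at h0
    rw [linSum_of_mem (mul_mem hm (inv_mem h.mem_commutator))] at hc
    refine mul_right_cancel₀ hne ?_
    linear_combination h0 - hc
  · rw [linSum_of_not_mem (fun hh => hm (by simpa using mul_mem hh h.mem_commutator)), zero_add]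
      at hc
    exact (mul_eq_zero.mp hc.symm).resolve_right hne

theorem Only.vanish (h : Only g χ) {a : G} (ha : a ∉ commutator G) : (χ : G → ℂ) a = 0 := by
  refine (h.value_off (fun hh => ha ?_)).2 ha
  obtain ⟨c, rfl⟩ := isConj_iff.mp hh
  exact Normal.conj_mem inferInstance g h.mem_commutator c

theorem Only.apply_g_ne (h : Only g χ) : (χ : G → ℂ) g ≠ (χ : G → ℂ) 1 := by
  intro e
  have hv := h.value
  rw [e, irr_apply_one_eq_deg χ] at hv
  have h1 : (0 : ℝ) < deg (χ : G → ℂ) := by exact_mod_cast deg_irr_pos χ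
  have h2 := congrArg Complex.re hv
  rw [Complex.neg_re, ← Complex.ofReal_natCast, ← Complex.ofReal_natCast, ← Complex.ofReal_div,
    Complex.ofReal_re, Complex.ofReal_re] at h2
  have h3 : (0 : ℝ) ≤ ((commutator G).index : ℝ) / deg (χ : G → ℂ) := by positivity
  linarith

theorem Only.mem_commutator_iff (h : Only g χ) (a : G) :
    a ∈ commutator G ↔ (χ : G → ℂ) a = (χ : G → ℂ) 1 ∨ IsConj g a := by
  constructor
  · intro ha
    by_cases hc : IsConj g a
    · exact Or.inr hc
    · exact Or.inl ((h.value_off hc).1 ha)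
  · rintro (he | hc)
    · by_contra ha
      exact IsIrrCharacter.apply_one_ne_zero χ.2 (he ▸ h.vanish ha)
    · obtain ⟨c, rfl⟩ := isConj_iff.mp hc
      exact Normal.conj_mem inferInstance g h.mem_commutator c

theorem Only.not_conj_of_ker (h : Only g χ) {a : G} (ha : (χ : G → ℂ) a = (χ : G → ℂ) 1) :
    ¬ IsConj g a := fun hc =>
  h.apply_g_ne ((classFunction_eq_of_isConj (isClassFunction_irr χ) hc).trans ha)

theorem Only.unique (h : Only g χ) (ψ : Cfsg.IrrCharacter G) (hψ : (ψ : G → ℂ) 1 ≠ 1)
    (hker : ∀ x, (χ : G → ℂ) x = (χ : G → ℂ) 1 → (ψ : G → ℂ) x = (ψ : G → ℂ) 1) : ψ = χ := by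
  classical
  by_contra hne
  have hg0 := h.other ψ hψ hne
  haveI := Fintype.ofFinite G
  haveI := Fintype.ofFinite (commutator G)
  have hψ0 := IsIrrCharacter.apply_one_ne_zero ψ.2
  have hval : ∀ n : commutator G, (ψ : G → ℂ) n =
      if (χ : G → ℂ) n = (χ : G → ℂ) 1 then (ψ : G → ℂ) 1 else 0 := by
    intro n
    split_ifs with hn
    · exact hker n hn
    · rw [← classFunction_eq_of_isConj (isClassFunction_irr ψ)
        (((h.mem_commutator_iff n).mp n.2).resolve_left hn), hg0]
  have hsum : Cfsg.classInner (fun n : commutator G => (ψ : G → ℂ) n) (fun _ => 1) ≠ 0 := by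
    simp only [classInner_def, map_one, mul_one, hval]
    rw [← Finset.sum_filter, Finset.sum_const, nsmul_eq_mul]
    refine mul_ne_zero (inv_ne_zero (Nat.cast_ne_zero.mpr Nat.card_pos.ne'))
      (mul_ne_zero (Nat.cast_ne_zero.mpr ?_) hψ0)
    exact (Finset.card_pos.mpr ⟨1, by simp⟩).ne'
  obtain ⟨e, he, heq⟩ := restrict_eq_mult_of_invariant (N := commutator G) ψ.2 (θ := fun _ => 1)
    isIrrCharacter_one (fun _ => rfl) hsum
  have h1 := congrFun heq 1
  have h2 := congrFun heq ⟨g, h.mem_commutator⟩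
  simp only [Pi.smul_apply, smul_eq_mul, mul_one, OneMemClass.coe_one] at h1 h2
  exact hψ0 (h1.trans (h2.symm.trans hg0))

/-- Elements central modulo the kernel of `χ` lie in the commutator subgroup. -/
theorem Only.mem_of_central (h : Only g χ) {z : G}
    (hz : ∀ x, (χ : G → ℂ) ⁅z, x⁆ = (χ : G → ℂ) 1) : z ∈ commutator G := by
  by_contra hzG
  obtain ⟨n, ρ, hρ, hρc⟩ := χ.2
  haveI := hρ
  have hcomm : ∀ x, ρ z * ρ x = ρ x * ρ z := by
    intro x
    have h1 : ρ ⁅z, x⁆ = LinearMap.id :=
      (eq_id_of_character_eq_finrank ρ ⁅z, x⁆).mp (by rw [hρc, hz x, ← hρc, ρ.char_one])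
    rw [← map_mul, ← map_mul, show z * x = ⁅z, x⁆ * (x * z) by rw [commutatorElement_def]; group,
      map_mul ρ ⁅z, x⁆, h1]
    rfl
  obtain ⟨c, hc⟩ := schur_scalar ρ (ρ z) fun x v => LinearMap.congr_fun (hcomm x) v
  have h0 := h.vanish hzG
  rw [← hρc, Representation.character, hc, map_smul, LinearMap.trace_id, smul_eq_mul] at h0
  rcases mul_eq_zero.mp h0 with hc0 | hn
  · have := nontrivial_of_irreducible ρ
    have h1 : ρ z⁻¹ * ρ z = 1 := by rw [← map_mul, inv_mul_cancel, map_one]
    rw [hc, hc0, zero_smul, mul_zero] at h1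
    exact zero_ne_one h1
  · refine IsIrrCharacter.apply_one_ne_zero χ.2 ?_
    rw [← hρc, ρ.char_one]; exact hn

end Cfsg.Lib.Chars.OneNonvanishing
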