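import Mathlib
import Cfsg.Agent.Chars.Count
import Cfsg.Agent.PGroups.Commutators

/-!
# A derived subgroup whose nonidentity elements form one class, and irreducible abelian operators
-/

set_option autoImplicit false
set_option linter.unusedSectionVars false
set_option linter.style.haveILetI false

namespace Cfsg.Lib.Chars.OneNonvanishing

open Subgroup
open scoped commutatorElement

universe u v

section Operators

variable {W : Type u} [AddCommGroup W] [Finite W] [Nontrivial W]

/-- `s` leaves no proper nonzero subgroup invariant. -/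
def IrredOn (s : Set (AddMonoid.End W)) : Prop :=
  ∀ L : AddSubgroup W, (∀ f ∈ s, ∀ w ∈ L, f w ∈ L) → L = ⊥ ∨ L = ⊤

open scoped IsMulCommutative in
theorem closure_facts {s : Set (AddMonoid.End W)} (hc : ∀ a ∈ s, ∀ b ∈ s, a * b = b * a)
    (hi : IrredOn s) :
    NoZeroDivisors (Subring.closure s) ∧ Nat.card (Subring.closure s) = Nat.card W := by
  haveI := Subring.isMulCommutative_closure hc
  set R := Subring.closure s with hR
  have hinj : ∀ f : R, f ≠ 0 → ∀ w : W, (f : AddMonoid.End W) w = 0 → w = 0 := by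
    intro f hf w hw
    let L : AddSubgroup W := AddMonoidHom.ker (f : AddMonoid.End W)
    rcases hi L (fun a ha v hv => by
      have hv' : (f : AddMonoid.End W) v = 0 := hv
      have := congrArg Subtype.val (mul_comm f ⟨a, Subring.subset_closure ha⟩)
      have h2 := DFunLike.congr_fun this v
      show (f : AddMonoid.End W) (a v) = 0
      change (f : AddMonoid.End W) (a v) = a ((f : AddMonoid.End W) v) at h2
      rw [h2, hv', map_zero]) with h | h
    · exact (AddSubgroup.mem_bot.mp (h ▸ (show w ∈ L from hw)))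
    · refine absurd (Subtype.ext (AddMonoidHom.ext fun v => ?_)) hf
      have : v ∈ L := h ▸ AddSubgroup.mem_top v
      exact this
  refine ⟨⟨fun {a b} hab => ?_⟩, ?_⟩
  · by_contra hne
    push Not at hne
    obtain ⟨w, hw⟩ : ∃ w, (b : AddMonoid.End W) w ≠ 0 := by
      by_contra hall
      push Not at hall
      exact hne.2 (Subtype.ext (AddMonoidHom.ext hall))
    exact hw (hinj a hne.1 _ (DFunLike.congr_fun (congrArg Subtype.val hab) w))
  · obtain ⟨w, hw⟩ := exists_ne (0 : W)
    let ev : R →+ W := (AddMonoidHom.eval w).comp R.subtype.toAddMonoidHom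
    refine Nat.card_eq_of_bijective ev ⟨?_, ?_⟩
    · rw [injective_iff_map_eq_zero]
      intro f hf
      by_contra hne
      exact hw (hinj f hne w hf)
    · rw [← AddMonoidHom.range_eq_top]
      refine (hi ev.range ?_).resolve_left fun h => hw ?_
      · rintro a ha _ ⟨f, rfl⟩
        exact ⟨⟨a, Subring.subset_closure ha⟩ * f, rfl⟩
      · have : w ∈ ev.range := ⟨1, rfl⟩
        rw [h] at this
        exact AddSubgroup.mem_bot.mp this

/-- An irreducible automorphism of a group of order `m` has order dividing `m - 1`. -/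
theorem pow_card_sub_one {f : AddMonoid.End W} (hf : Function.Injective f)
    (hi : IrredOn {f}) (w : W) : (f ^ (Nat.card W - 1)) w = w := by
  classical
  have hc : ∀ a ∈ ({f} : Set (AddMonoid.End W)), ∀ b ∈ ({f} : Set (AddMonoid.End W)), a * b = b * a := by
    rintro a rfl b rfl; rfl
  obtain ⟨hz, hcard⟩ := closure_facts hc hi
  set R := Subring.closure ({f} : Set (AddMonoid.End W))
  haveI : Finite R := Nat.finite_of_card_ne_zero (hcard ▸ Nat.card_pos.ne')
  haveI := Fintype.ofFinite R
  haveI : Nontrivial R := by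
    rw [← Finite.one_lt_card_iff_nontrivial, hcard]; exact Finite.one_lt_card
  haveI : IsDomain R := NoZeroDivisors.to_isDomain R
  set x : R := ⟨f, Subring.subset_closure rfl⟩
  have hx : x ≠ 0 := fun e => by
    obtain ⟨v, hv⟩ := exists_ne (0 : W)
    refine hv (hf ?_)
    rw [map_zero]
    exact DFunLike.congr_fun (congrArg Subtype.val e) v
  letI : DivisionRing R := Fintype.divisionRingOfIsDomain R
  have hu : IsUnit x := Ne.isUnit hx
  have h1 : hu.unit ^ (Nat.card W - 1) = 1 := by
    rw [show Nat.card W - 1 = Nat.card Rˣ by rw [Nat.card_units, hcard]]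
    exact pow_card_eq_one'
  have h2 : x ^ (Nat.card W - 1) = 1 := by
    rw [← hu.unit_spec, ← Units.val_pow_eq_pow_val, h1, Units.val_one]
  exact DFunLike.congr_fun (congrArg Subtype.val h2) w

open scoped IsMulCommutative in
/-- An abelian group acting faithfully and irreducibly is cyclic. -/
theorem isCyclic_of_irred {A : Type v} [Group A] [Finite A] (φ : A →* AddMonoid.End W)
    (hφ : Function.Injective φ) (hc : ∀ a b : A, a * b = b * a) (hi : IrredOn (Set.range φ)) :
    IsCyclic A := by
  have hc' : ∀ a ∈ Set.range φ, ∀ b ∈ Set.range φ, a * b = b * a := by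
    rintro _ ⟨a, rfl⟩ _ ⟨b, rfl⟩; rw [← map_mul, hc, map_mul]
  obtain ⟨hz, hcard⟩ := closure_facts hc' hi
  haveI := Subring.isMulCommutative_closure hc'
  haveI : Finite (Subring.closure (Set.range φ)) :=
    Nat.finite_of_card_ne_zero (hcard ▸ Nat.card_pos.ne')
  haveI : Nontrivial (Subring.closure (Set.range φ)) := by
    rw [← Finite.one_lt_card_iff_nontrivial, hcard]; exact Finite.one_lt_card
  haveI : IsDomain (Subring.closure (Set.range φ)) := NoZeroDivisors.to_isDomain _
  let ψ : A →* Subring.closure (Set.range φ) :=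
    φ.codRestrict _ fun a => Subring.subset_closure ⟨a, rfl⟩
  exact isCyclic_of_injective_ringHom ψ fun a b e => hφ (congrArg Subtype.val e)

end Operators

section OneClass

variable {H : Type u} [Group H] [Finite H] {Q : Subgroup H} [Q.Normal]

/-- The nonidentity elements of a normal subgroup form one class. -/
def OneClass (Q : Subgroup H) : Prop :=
  ∀ u ∈ Q, ∀ v ∈ Q, u ≠ 1 → v ≠ 1 → IsConj u v

theorem exists_prime_pow (h : OneClass Q) (hQ : Q ≠ ⊥) :
    ∃ p : ℕ, p.Prime ∧ (∀ u ∈ Q, u ^ p = 1) ∧ IsPGroup p Q ∧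
      (∀ u ∈ Q, ∀ v ∈ Q, u * v = v * u) := by
  have h1 : Nat.card Q ≠ 1 := fun e => hQ (Subgroup.card_eq_one.mp e)
  obtain ⟨p, hp, hpd⟩ := Nat.exists_prime_and_dvd h1
  haveI := Fact.mk hp
  obtain ⟨w, hw⟩ := exists_prime_orderOf_dvd_card' p hpd
  have hw1 : (w : H) ≠ 1 := fun e => hp.one_lt.ne (by
    rw [← hw, show w = 1 from Subtype.ext e, orderOf_one])
  have hpow : ∀ u ∈ Q, u ^ p = 1 := by
    intro u hu
    by_cases hu1 : u = 1
    · rw [hu1, one_pow]
    obtain ⟨c, rfl⟩ := isConj_iff.mp (h _ w.2 _ hu hw1 hu1)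
    rw [conj_pow, ← Subgroup.coe_pow, ← hw, pow_orderOf_eq_one]
    simp
  have hpg : IsPGroup p Q := fun u => ⟨1, Subtype.ext (by rw [pow_one]; exact hpow u u.2)⟩
  refine ⟨p, hp, hpow, hpg, ?_⟩
  haveI : Nontrivial Q := (Subgroup.nontrivial_iff_ne_bot Q).mpr hQ
  haveI := hpg.center_nontrivial
  obtain ⟨z, hz⟩ := exists_ne (1 : center Q)
  have hz1 : ((z : Q) : H) ≠ 1 := fun e => hz (Subtype.ext (Subtype.ext e))
  intro u hu v hv
  by_cases hu1 : u = 1
  · rw [hu1, one_mul, mul_one]
  obtain ⟨c, rfl⟩ := isConj_iff.mp (h _ (z : Q).2 _ hu hz1 hu1)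
  have hv' : c⁻¹ * v * c ∈ Q := by
    simpa using (inferInstance : Q.Normal).conj_mem v hv c⁻¹
  have e := congrArg Subtype.val (mem_center_iff.mp z.2 ⟨_, hv'⟩)
  change c⁻¹ * v * c * ((z : Q) : H) = ((z : Q) : H) * (c⁻¹ * v * c) at e
  calc c * ((z : Q) : H) * c⁻¹ * v = c * (((z : Q) : H) * (c⁻¹ * v * c)) * c⁻¹ := by group
    _ = c * (c⁻¹ * v * c * ((z : Q) : H)) * c⁻¹ := by rw [e]
    _ = v * (c * ((z : Q) : H) * c⁻¹) := by group

/-- The structure when `|Q| > 2` and the centre lies in `Q`. -/
theorem structure_of_gt_two (h : OneClass Q) (hder : commutator H ≤ Q) (hZ : center H ≤ Q)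
    (h2 : 2 < Nat.card Q) :
    (∀ u ∈ Q, u ≠ 1 → centralizer ({u} : Set H) = Q) ∧ Q.index = Nat.card Q - 1 ∧
      IsCyclic (H ⧸ Q) := by
  classical
  have hQ : Q ≠ ⊥ := fun e => by simp [e] at h2
  obtain ⟨p, hp, hpow, -, hab⟩ := exists_prime_pow h hQ
  have hcomm : ∀ a b : H, ⁅a, b⁆ ∈ Q := fun a b =>
    hder (Subgroup.commutator_mem_commutator (mem_top a) (mem_top b))
  -- the class of a nonidentity element
  have hcls : ∀ u ∈ Q, u ≠ 1 → Nat.card {x : H // IsConj u x} = Nat.card Q - 1 := by
    intro u hu hu1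
    haveI := Fintype.ofFinite Q
    rw [Nat.card_congr (show {x : H // IsConj u x} ≃ {x : Q // x ≠ 1} from
      { toFun := fun x => ⟨⟨x, by
          obtain ⟨c, hc⟩ := isConj_iff.mp x.2
          rw [← hc]; exact (inferInstance : Q.Normal).conj_mem u hu c⟩, fun e => hu1 (by
          have hx := congrArg Subtype.val e
          have := x.2
          rwa [show (x : H) = 1 from hx, isConj_one_left] at this)⟩
        invFun := fun x => ⟨x.1, h u hu _ x.1.2 hu1 fun e => x.2 (Subtype.ext e)⟩
        left_inv := fun _ => rfl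
        right_inv := fun _ => rfl })]
    rw [Nat.card_eq_fintype_card, Fintype.card_subtype_compl, Nat.card_eq_fintype_card]
    simp
  -- the centre is trivial
  have hZ1 : ∀ z : H, (∀ x, z * x = x * z) → z = 1 := by
    intro z hz
    have hzc : z ∈ center H := mem_center_iff.mpr fun x => (hz x).symm
    by_contra hz1
    have h1 := hcls z (hZ hzc) hz1
    haveI : Subsingleton {x : H // IsConj z x} := ⟨fun a b => by
      have : ∀ x : {x : H // IsConj z x}, (x : H) = z := fun x => by
        obtain ⟨c, hc⟩ := isConj_iff.mp x.2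
        rw [← hc, ← hz c, mul_inv_cancel_right]
      exact Subtype.ext ((this a).trans (this b).symm)⟩
    have h3 : Nat.card {x : H // IsConj z x} ≤ 1 := Finite.card_le_one_iff_subsingleton.mpr inferInstance
    omega
  set C := centralizer (Q : Set H) with hCdef
  have hQC : Q ≤ C := fun u hu => mem_centralizer_iff.mpr fun v hv => hab v hv u hu
  have hcC : ∀ c ∈ C, ∀ u ∈ Q, u * c = c * u := fun c hc u hu => mem_centralizer_iff.mp hc u hu
  -- one centraliser for all nonidentity elements
  have hcent : ∀ u ∈ Q, u ≠ 1 → centralizer ({u} : Set H) = C := by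
    intro u hu hu1
    refine le_antisymm (fun x hx => mem_centralizer_iff.mpr fun v hv => ?_)
      (centralizer_le (Set.singleton_subset_iff.mpr hu))
    by_cases hv1 : v = 1
    · rw [hv1, one_mul, mul_one]
    obtain ⟨c, rfl⟩ := isConj_iff.mp (h u hu v hv hu1 hv1)
    rw [mem_centralizer_singleton_iff] at hx
    have hq : ⁅c⁻¹, x⁆ * u = u * ⁅c⁻¹, x⁆ := hab _ (hcomm _ _) u hu
    rw [commutatorElement_def, inv_inv] at hq
    calc c * u * c⁻¹ * x = x * (x⁻¹ * c * u * (c⁻¹ * x * c * x⁻¹) * (x * c⁻¹)) := by group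
      _ = x * (x⁻¹ * c * ((c⁻¹ * x * c * x⁻¹) * u) * (x * c⁻¹)) := by rw [hq]; group
      _ = x * (c * x⁻¹ * (u * x) * c⁻¹) := by group
      _ = x * (c * x⁻¹ * (x * u) * c⁻¹) := by rw [hx]
      _ = x * (c * u * c⁻¹) := by group
  -- an element outside `C`
  obtain ⟨u₀, hu₀, hu₀1⟩ : ∃ u₀ ∈ Q, u₀ ≠ 1 := (Subgroup.bot_or_exists_ne_one Q).resolve_left hQ
  have hCtop : C ≠ ⊤ := by
    intro htop
    refine hu₀1 (hZ1 u₀ fun x => ?_)
    exact hcC x (htop ▸ mem_top x) u₀ hu₀
  -- `C = Q`
  have hpowC : ∀ c ∈ C, c ^ p = 1 := by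
    intro c hc
    refine hZ1 _ fun x => ?_
    have hcm : Commute ⁅c, x⁆ c := hcC c hc _ (hcomm c x)
    have := Cfsg.Lib.PGroups.commutator_pow_left_of_commute hcm p
    rw [hpow _ (hcomm c x), commutatorElement_eq_one_iff_mul_comm] at this
    exact this
  obtain ⟨y, hy⟩ : ∃ y, y ∉ C := by
    by_contra hall; push Not at hall; exact hCtop (eq_top_iff.mpr fun x _ => hall x)
  let φ : C → Q := fun c => ⟨⁅(c : H), y⁆, hcomm _ _⟩
  have hφ : Function.Injective φ := by
    intro a b e
    have e' : ⁅(a : H), y⁆ = ⁅(b : H), y⁆ := congrArg Subtype.val e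
    set c : H := (b : H)⁻¹ * a with hc
    have hcC' : c ∈ C := mul_mem (inv_mem b.2) a.2
    have hca : (a : H) = b * c := by rw [hc]; group
    have hcy : ⁅c, y⁆ = 1 := by
      rw [hca, Cfsg.Lib.PGroups.mul_left_commutator,
        ← hcC b b.2 _ (hcomm c y), mul_inv_cancel_right, mul_eq_right] at e'
      exact e'
    rw [commutatorElement_eq_one_iff_mul_comm] at hcy
    have hcy' : y * c * y⁻¹ = c := by rw [← hcy, mul_inv_cancel_right]
    have : c = 1 := by
      refine hZ1 c fun x => ?_
      -- `c` commutes with `C`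
      have hfix : ∀ c' ∈ C, ⁅c, c'⁆ = 1 := by
        intro c' hc'
        by_contra hne
        have h1 : ⁅c, c'⁆ ∈ Q := hcomm _ _
        refine hy ?_
        rw [← hcent _ h1 hne, mem_centralizer_singleton_iff]
        have h2 : y * ⁅c, c'⁆ * y⁻¹ = ⁅c, c'⁆ := by
          have e1 : y * ⁅c, c'⁆ * y⁻¹ = ⁅y * c * y⁻¹, ⁅y, c'⁆ * c'⁆ := by
            simp only [commutatorElement_def]; group
          rw [e1, hcy', Cfsg.Lib.PGroups.mul_right_commutator,
            show ⁅c, ⁅y, c'⁆⁆ = 1 from commutatorElement_eq_one_iff_mul_comm.mpr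
              (hcC c hcC' _ (hcomm y c')).symm, one_mul,
            hab _ (hcomm y c') _ h1, mul_inv_cancel_right]
        exact mul_inv_eq_iff_eq_mul.mp h2
      -- any `x` differs from a conjugation by a commutator in `Q`
      by_contra hne
      have hne' : ⁅c, x⁆ ≠ 1 := fun e => hne (commutatorElement_eq_one_iff_mul_comm.mp e)
      refine hy ?_
      rw [← hcent _ (hcomm c x) hne', mem_centralizer_singleton_iff]
      have h2 : y * ⁅c, x⁆ * y⁻¹ = ⁅c, x⁆ := by
        have e1 : y * ⁅c, x⁆ * y⁻¹ = ⁅y * c * y⁻¹, ⁅y, x⁆ * x⁆ := by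
          simp only [commutatorElement_def]; group
        rw [e1, hcy', Cfsg.Lib.PGroups.mul_right_commutator,
          show ⁅c, ⁅y, x⁆⁆ = 1 from commutatorElement_eq_one_iff_mul_comm.mpr
            (hcC c hcC' _ (hcomm y x)).symm, one_mul,
          hab _ (hcomm y x) _ (hcomm c x), mul_inv_cancel_right]
      exact mul_inv_eq_iff_eq_mul.mp h2
    rw [hc, inv_mul_eq_one] at this
    exact Subtype.ext this.symm
  have hCQ : C = Q := (Subgroup.eq_of_le_of_card_ge hQC (Nat.card_le_card_of_injective φ hφ)).symm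
  refine ⟨fun u hu hu1 => (hcent u hu hu1).trans hCQ, ?_, ?_⟩
  · have h1 := card_isConj_mul u₀
    rw [hcls u₀ hu₀ hu₀1, hcent u₀ hu₀ hu₀1, hCQ, ← Q.card_mul_index, mul_comm] at h1
    exact (Nat.eq_of_mul_eq_mul_left Nat.card_pos h1).symm
  · -- the regular abelian action
    haveI : IsMulCommutative Q := ⟨⟨fun a b => Subtype.ext (hab a a.2 b b.2)⟩⟩
    letI : CommGroup Q := { (inferInstance : Group Q) with mul_comm := fun a b => Subtype.ext (hab a a.2 b b.2) }
    haveI : Nontrivial Q := (Subgroup.nontrivial_iff_ne_bot Q).mpr hQ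
    let act : H →* AddMonoid.End (Additive Q) :=
      { toFun := fun x => MonoidHom.toAdditive (MulAut.conjNormal (H := Q) x).toMonoidHom
        map_one' := by
          refine AddMonoidHom.ext fun w => ?_
          show Additive.ofMul ((MulAut.conjNormal (H := Q) (1 : H)) (Additive.toMul w)) = w
          rw [map_one]; rfl
        map_mul' := fun a b => by
          refine AddMonoidHom.ext fun w => ?_
          show Additive.ofMul ((MulAut.conjNormal (H := Q) (a * b)) (Additive.toMul w)) = _
          rw [map_mul]; rfl }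
    have hker : ∀ x ∈ Q, act x = 1 := by
      intro x hx
      refine AddMonoidHom.ext fun w => ?_
      show Additive.ofMul ((MulAut.conjNormal (H := Q) x) (Additive.toMul w)) = w
      rw [show (MulAut.conjNormal (H := Q) x) (Additive.toMul w) = Additive.toMul w from
        Subtype.ext (by rw [MulAut.conjNormal_apply, hab x hx _ (Additive.toMul w).2, mul_inv_cancel_right])]
      rfl
    let φ' : H ⧸ Q →* AddMonoid.End (Additive Q) := QuotientGroup.lift Q act hker
    refine isCyclic_of_irred φ' ?_ ?_ ?_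
    · rw [injective_iff_map_eq_one]
      intro a ha
      induction a using QuotientGroup.induction_on with
      | _ x =>
        change act x = 1 at ha
        refine (QuotientGroup.eq_one_iff x).mpr ?_
        rw [← hCQ, hCdef, mem_centralizer_iff]
        intro v hv
        have := congrArg (fun w => ((Additive.toMul w : Q) : H)) (DFunLike.congr_fun ha (Additive.ofMul ⟨v, hv⟩))
        change x * v * x⁻¹ = v at this
        exact (mul_inv_eq_iff_eq_mul.mp this).symm
    · intro a b
      induction a using QuotientGroup.induction_on with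
      | _ a =>
        induction b using QuotientGroup.induction_on with
        | _ b =>
          rw [← QuotientGroup.mk_mul, ← QuotientGroup.mk_mul, QuotientGroup.eq,
            show (a * b)⁻¹ * (b * a) = ⁅b⁻¹, a⁻¹⁆ by rw [commutatorElement_def]; group]
          exact hcomm _ _
    · intro L hL
      rcases eq_or_ne L ⊥ with hb | hb
      · exact Or.inl hb
      refine Or.inr (eq_top_iff.mpr fun w _ => ?_)
      obtain ⟨⟨l, hl⟩, hl0⟩ := AddSubgroup.ne_bot_iff_exists_ne_zero.mp hb
      by_cases hw : ((Additive.toMul w : Q) : H) = 1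
      · rw [show w = 0 from congrArg Additive.ofMul (Subtype.ext hw : Additive.toMul w = 1)]
        exact zero_mem L
      have hl1 : ((Additive.toMul l : Q) : H) ≠ 1 := fun e => hl0 (Subtype.ext
        (congrArg Additive.ofMul (Subtype.ext e : Additive.toMul l = 1)))
      obtain ⟨c, hc⟩ := isConj_iff.mp (h _ (Additive.toMul l).2 _ (Additive.toMul w).2 hl1 hw)
      have := hL _ ⟨(c : H ⧸ Q), rfl⟩ l hl
      rwa [show φ' (c : H ⧸ Q) l = w from congrArg Additive.ofMul (Subtype.ext hc :
        (MulAut.conjNormal (H := Q) c) (Additive.toMul l) = Additive.toMul w)] at this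

end OneClass

end Cfsg.Lib.Chars.OneNonvanishing
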