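import Mathlib
import Cfsg.Agent.Chars.OneNonvanishing.Quot
import Cfsg.Agent.OddChar.KernelCoherence

/-!
# A `p`-group with one class in every nontrivial coset of the derived subgroup and a Singer automorphism

Such a group, for odd `p`, has exponent `p`.
-/

set_option autoImplicit false
set_option linter.unusedSectionVars false
set_option linter.style.haveILetI false

namespace Cfsg.Lib.Chars.OneNonvanishing

open Subgroup
open scoped commutatorElement

universe u

variable {P : Type u} [Group P] [Finite P]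

/-- Stable under `σ`. -/
def Stable (σ : MulAut P) (L : Subgroup P) : Prop := ∀ x ∈ L, σ x ∈ L

theorem Stable.pow {σ : MulAut P} {L : Subgroup P} (h : Stable σ L) (k : ℕ) : Stable (σ ^ k) L := by
  induction k with
  | zero => intro x hx; simpa using hx
  | succ k ih => intro x hx; rw [pow_succ', MulAut.mul_apply]; exact h _ (ih x hx)

theorem Stable.symm_mem {σ : MulAut P} {L : Subgroup P} (h : Stable σ L) {x : P} (hx : x ∈ L) :
    σ.symm x ∈ L := by
  have hinj : Function.Injective (fun a : L => (⟨σ a, h a a.2⟩ : L)) := fun a b e =>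
    Subtype.ext (σ.injective (congrArg Subtype.val e))
  obtain ⟨a, ha⟩ := Finite.injective_iff_surjective.mp hinj ⟨x, hx⟩
  have := congrArg Subtype.val ha
  simp only at this
  rw [← this, MulEquiv.symm_apply_apply]
  exact a.2

theorem stable_commutator (σ : MulAut P) {A B : Subgroup P} (hA : Stable σ A) (hB : Stable σ B) :
    Stable σ ⁅A, B⁆ := fun x hx => by
  have h : σ.toMonoidHom x ∈ ⁅A, B⁆.map σ.toMonoidHom := mem_map_of_mem _ hx
  rw [map_commutator] at h
  exact commutator_mono (map_le_iff_le_comap.mpr hA) (map_le_iff_le_comap.mpr hB) h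

theorem stable_top (σ : MulAut P) : Stable σ ⊤ := fun x _ => mem_top (σ x)

/-- On an irreducible abelian stable section of order `m`, the `(m - 1)`-st power is trivial. -/
theorem section_pow {σ : MulAut P} {U B : Subgroup P} [U.Normal] (hUB : U < B)
    (hab : ⁅B, B⁆ ≤ U) (hU : Stable σ U) (hB : Stable σ B)
    (hirr : ∀ L : Subgroup P, U ≤ L → L ≤ B → Stable σ L → L = U ∨ L = B)
    {b : P} (hb : b ∈ B) : b⁻¹ * (σ ^ (U.relIndex B - 1)) b ∈ U := by
  let σB : B →* B := (σ.toMonoidHom.comp B.subtype).codRestrict B fun x => hB x x.2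
  set UB := U.subgroupOf B with hUBdef
  letI : CommGroup (B ⧸ UB) :=
    { (inferInstance : Group (B ⧸ UB)) with
      mul_comm := fun a c => by
        induction a using QuotientGroup.induction_on with
        | _ a =>
          induction c using QuotientGroup.induction_on with
          | _ c =>
            rw [← QuotientGroup.mk_mul, ← QuotientGroup.mk_mul, QuotientGroup.eq,
              show (a * c)⁻¹ * (c * a) = ⁅c⁻¹, a⁻¹⁆ by rw [commutatorElement_def]; group, hUBdef,
              mem_subgroupOf]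
            exact hab (commutator_mem_commutator (inv_mem c.2) (inv_mem a.2)) }
  have hle : UB ≤ UB.comap σB := fun x hx => hU x hx
  let f : AddMonoid.End (Additive (B ⧸ UB)) := MonoidHom.toAdditive (QuotientGroup.map UB UB σB hle)
  haveI : Nontrivial (Additive (B ⧸ UB)) := by
    obtain ⟨x, hxB, hxU⟩ := SetLike.exists_of_lt hUB
    refine ⟨Additive.ofMul (QuotientGroup.mk ⟨x, hxB⟩), 0, fun e => hxU ?_⟩
    exact (QuotientGroup.eq_one_iff (N := UB) (⟨x, hxB⟩ : B)).mp e
  have hinj : Function.Injective f := by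
    rw [injective_iff_map_eq_zero]
    intro a ha
    obtain ⟨x, hx⟩ := QuotientGroup.mk_surjective (Additive.toMul a)
    have ha' : f (Additive.ofMul ((x : B) : B ⧸ UB)) = 0 := by rw [hx]; exact ha
    have h1 : σ (x : P) ∈ U := (QuotientGroup.eq_one_iff (N := UB) (σB x)).mp ha'
    have h2 := hU.symm_mem h1
    rw [MulEquiv.symm_apply_apply] at h2
    have h3 : ((x : B) : B ⧸ UB) = 1 := (QuotientGroup.eq_one_iff (N := UB) x).mpr h2
    rw [hx] at h3
    exact h3
  have hirr' : IrredOn ({f} : Set (AddMonoid.End (Additive (B ⧸ UB)))) := by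
    intro L hL
    set L' : Subgroup P := ((AddSubgroup.toSubgroup' L).comap (QuotientGroup.mk' UB)).map B.subtype
    have hmem : ∀ x : B, (x : P) ∈ L' ↔ Additive.ofMul ((x : B) : B ⧸ UB) ∈ L := fun x =>
      (mem_map_iff_mem B.subtype_injective).trans Iff.rfl
    have hUL : U ≤ L' := fun x hx => (hmem ⟨x, hUB.le hx⟩).mpr (by
      rw [show ((⟨x, hUB.le hx⟩ : B) : B ⧸ UB) = 1 from (QuotientGroup.eq_one_iff _).mpr hx]
      exact L.zero_mem)
    have hLB : L' ≤ B := map_subtype_le _
    have hLs : Stable σ L' := fun x hx => (hmem (σB ⟨x, hLB hx⟩)).mpr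
      (hL f rfl _ ((hmem ⟨x, hLB hx⟩).mp hx))
    rcases hirr L' hUL hLB hLs with h | h
    · refine Or.inl ((AddSubgroup.eq_bot_iff_forall _).mpr fun a ha => ?_)
      obtain ⟨x, hx⟩ := QuotientGroup.mk_surjective (Additive.toMul a)
      have h1 : (x : P) ∈ L' := (hmem x).mpr (by rw [hx]; exact ha)
      rw [h] at h1
      show Additive.toMul a = 1
      rw [← hx]
      exact (QuotientGroup.eq_one_iff _).mpr h1
    · refine Or.inr (eq_top_iff.mpr fun a _ => ?_)
      obtain ⟨x, hx⟩ := QuotientGroup.mk_surjective (Additive.toMul a)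
      have h1 : (x : P) ∈ L' := h.ge x.2
      have h2 := (hmem x).mp h1
      rwa [hx] at h2
  have hfix := pow_card_sub_one hinj hirr' (Additive.ofMul ((⟨b, hb⟩ : B) : B ⧸ UB))
  have hit : ∀ (j : ℕ) (x : B), (f ^ j) (Additive.ofMul ((x : B) : B ⧸ UB)) =
      Additive.ofMul ((⟨(σ ^ j) x, hB.pow j x x.2⟩ : B) : B ⧸ UB) := by
    intro j
    induction j with
    | zero => intro x; simp
    | succ j ih =>
      intro x
      rw [pow_succ', AddMonoid.End.coe_mul, Function.comp_apply, ih]
      refine congrArg (fun t : B => Additive.ofMul (t : B ⧸ UB)) (Subtype.ext ?_)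
      show σ ((σ ^ j) (x : P)) = (σ ^ (j + 1)) (x : P)
      rw [pow_succ', MulAut.mul_apply]
  have hcard : Nat.card (Additive (B ⧸ UB)) = U.relIndex B := by
    rw [Nat.card_congr Additive.toMul, hUBdef, Subgroup.relIndex, Subgroup.index_eq_card]
  rw [hit, hcard] at hfix
  have h4 : ((⟨(σ ^ (U.relIndex B - 1)) b, hB.pow _ b hb⟩ : B) : B ⧸ UB) = (⟨b, hb⟩ : B) := hfix
  have h5 := mem_subgroupOf.mp (QuotientGroup.eq.mp h4.symm)
  simpa using h5

/-- Trivial action on a section passes to powers. -/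
theorem section_pow_pow {ρ : MulAut P} {U B : Subgroup P} (hU : Stable ρ U) (_hB : Stable ρ B)
    (h : ∀ b ∈ B, b⁻¹ * ρ b ∈ U) (j : ℕ) : ∀ b ∈ B, b⁻¹ * (ρ ^ j) b ∈ U := by
  induction j with
  | zero => intro b _; simp
  | succ j ih =>
    intro b hb
    have h1 := hU _ (ih b hb)
    rw [map_mul, map_inv] at h1
    have h2 := mul_mem (h b hb) h1
    rw [pow_succ', MulAut.mul_apply]
    rwa [mul_assoc, mul_inv_cancel_left] at h2

/-- `(p^n - 1)` does not divide a product of two `p^l - 1` with `0 < l < n`. -/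
theorem not_dvd_sub_one_mul {p n l m : ℕ} (hp : 2 ≤ p) (hl0 : 0 < l) (hl : l < n) (hm0 : 0 < m)
    (hm : m < n) : ¬ p ^ n - 1 ∣ (p ^ l - 1) * (p ^ m - 1) := by
  intro hd
  have h1 := Nat.dvd_gcd_mul_gcd_iff_dvd_mul.mpr hd
  rw [Nat.pow_sub_one_gcd_pow_sub_one, Nat.pow_sub_one_gcd_pow_sub_one] at h1
  have key : ∀ a, 0 < a → a < n → 0 < Nat.gcd n a ∧ 2 * Nat.gcd n a ≤ n := by
    intro a ha0 ha
    refine ⟨Nat.gcd_pos_of_pos_right n ha0, ?_⟩
    obtain ⟨c, hc⟩ := Nat.gcd_dvd_left n a
    have hga : Nat.gcd n a ≤ a := Nat.le_of_dvd ha0 (Nat.gcd_dvd_right n a)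
    have hc2 : 2 ≤ c := by
      by_contra hlt
      interval_cases c
      · omega
      · omega
    calc 2 * Nat.gcd n a ≤ Nat.gcd n a * c := by rw [mul_comm]; exact Nat.mul_le_mul_left _ hc2
      _ = n := hc.symm
  obtain ⟨hu0, hu⟩ := key l hl0 hl
  obtain ⟨hv0, hv⟩ := key m hm0 hm
  set a := Nat.gcd n l
  set b := Nat.gcd n m
  have hab : a + b ≤ n := by omega
  have hpa : 2 ≤ p ^ a := hp.trans (Nat.le_self_pow hu0.ne' p)
  have hpb : 2 ≤ p ^ b := hp.trans (Nat.le_self_pow hv0.ne' p)
  have hprod : p ^ a * p ^ b ≤ p ^ n := by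
    rw [← pow_add]; exact Nat.pow_le_pow_right (by omega) hab
  have hpos : 0 < (p ^ a - 1) * (p ^ b - 1) := Nat.mul_pos (by omega) (by omega)
  have h2 := Nat.le_of_dvd hpos h1
  have hx : (p ^ a - 1) * (p ^ b - 1) + (p ^ a + p ^ b - 1) = p ^ a * p ^ b := by
    obtain ⟨x, hx⟩ : ∃ x, p ^ a = x + 1 := ⟨p ^ a - 1, by omega⟩
    obtain ⟨y, hy⟩ : ∃ y, p ^ b = y + 1 := ⟨p ^ b - 1, by omega⟩
    simp only [hx, hy, Nat.add_sub_cancel]
    have : x + 1 + (y + 1) - 1 = x + y + 1 := by omega
    rw [this]; ring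
  omega

/-- The standing hypotheses. -/
structure Singer (p : ℕ) (σ : MulAut P) : Prop where
  prime : p.Prime
  odd : p ≠ 2
  pgroup : IsPGroup p P
  top_ne : commutator P ≠ ⊤
  pow_mem : ∀ a : P, a ^ p ∈ commutator P
  coset : ∀ x : P, x ∉ commutator P → ∀ c ∈ commutator P, ∃ v : P, v * x * v⁻¹ = x * c
  fpf : ∀ k : ℕ, ¬ ((commutator P).index - 1 ∣ k) →
    ∀ v : P, v⁻¹ * (σ ^ k) v ∈ commutator P → v ∈ commutator P
  trans : ∀ u v : P, u ∉ commutator P → v ∉ commutator P →
    ∃ k : ℕ, ((σ ^ k) u)⁻¹ * v ∈ commutator P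

variable {p : ℕ} {σ : MulAut P}

theorem Singer.central_lt (h : Singer p σ) {D Z : Subgroup P} [D.Normal] (hDZ : D ≤ Z)
    (hZ : Z ≤ commutator P) (hc : ⁅Z, (⊤ : Subgroup P)⁆ ≤ D) :
    D.relIndex Z < (commutator P).index := by
  set π := QuotientGroup.mk' D with hπ
  set N := (commutator P).map π with hN
  have hker : π.ker ≤ commutator P := by rw [hπ, QuotientGroup.ker_mk']; exact hDZ.trans hZ
  have hidx : N.index = (commutator P).index :=
    index_map_eq _ (QuotientGroup.mk'_surjective D) hker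
  obtain ⟨x, hx⟩ : ∃ x, x ∉ commutator P := by
    by_contra hall; push Not at hall; exact h.top_ne (eq_top_iff.mpr fun y _ => hall y)
  have hxN : π x ∉ N := fun hxN => hx (by
    have := mem_comap.mpr hxN
    rwa [hN, comap_map_eq, sup_eq_left.mpr hker] at this)
  -- the class of `π x`
  have hcl : Nat.card {y // IsConj (π x) y} = Nat.card N := by
    refine Nat.card_congr
      { toFun := fun y => ⟨(π x)⁻¹ * y, by
          obtain ⟨c, hcy⟩ := isConj_iff.mp y.2
          obtain ⟨c, rfl⟩ := QuotientGroup.mk'_surjective D c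
          refine ⟨x⁻¹ * (c * x * c⁻¹), ?_, ?_⟩
          · have := commutator_mem_commutator (mem_top x⁻¹) (mem_top c)
            rw [← _root_.commutator_def, commutatorElement_def] at this
            simpa [mul_assoc] using this
          · rw [← hcy, hπ]; simp [mul_assoc]⟩
        invFun := fun n => ⟨π x * n, by
          obtain ⟨c, hc', hcn⟩ := n.2
          obtain ⟨v, hv⟩ := h.coset x hx c hc'
          exact isConj_iff.mpr ⟨π v, by rw [← hcn, ← map_inv, ← map_mul, ← map_mul, hv, map_mul]⟩⟩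
        left_inv := fun y => Subtype.ext (mul_inv_cancel_left _ _)
        right_inv := fun n => Subtype.ext (inv_mul_cancel_left _ _) }
  have hC : Nat.card (centralizer ({π x} : Set (P ⧸ D))) = N.index := by
    have h1 := card_isConj_mul (π x)
    rw [hcl, ← N.card_mul_index] at h1
    exact Nat.eq_of_mul_eq_mul_left Nat.card_pos h1
  have hlt : Z.map π < centralizer ({π x} : Set (P ⧸ D)) := by
    refine lt_of_le_not_ge ?_ fun hle => hxN (map_mono hZ (hle (mem_centralizer_singleton_iff.mpr rfl)))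
    rintro _ ⟨z, hz, rfl⟩
    rw [mem_centralizer_singleton_iff]
    have h2 : π ⁅z, x⁆ = 1 :=
      (QuotientGroup.eq_one_iff _).mpr (hc (commutator_mem_commutator hz (mem_top x)))
    rw [map_commutatorElement, commutatorElement_eq_one_iff_mul_comm] at h2
    exact h2
  have hrel : D.relIndex Z = Nat.card (Z.map π) := by
    have := relIndex_ker (K := Z) π
    rwa [hπ, QuotientGroup.ker_mk'] at this
  rw [hrel, ← hidx, ← hC]
  exact Set.Finite.card_lt_card (Set.toFinite _) hlt

theorem Singer.exists_pow (h : Singer p σ) : ∃ n, (commutator P).index = p ^ n := by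
  haveI := Fact.mk h.prime
  exact h.pgroup.index _

theorem Singer.relIndex_pow (h : Singer p σ) {D Z : Subgroup P} (hDZ : D < Z) :
    ∃ l, 0 < l ∧ D.relIndex Z = p ^ l := by
  haveI := Fact.mk h.prime
  obtain ⟨l, hl⟩ := (h.pgroup.to_subgroup Z).index (D.subgroupOf Z)
  refine ⟨l, Nat.pos_of_ne_zero fun e => hDZ.not_ge ?_, hl⟩
  rw [← relIndex_eq_one, Subgroup.relIndex, hl, e, pow_zero]

theorem Singer.class_two (h : Singer p σ) : ⁅commutator P, (⊤ : Subgroup P)⁆ = ⊥ := by
  classical
  haveI := Fact.mk h.prime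
  haveI hnil : Group.IsNilpotent P := h.pgroup.isNilpotent
  set C := commutator P with hC
  set γ := ⁅C, (⊤ : Subgroup P)⁆ with hγ
  have hCtop : C = ⁅(⊤ : Subgroup P), (⊤ : Subgroup P)⁆ := by rw [hC, _root_.commutator_def]
  have hCs : Stable σ C := hCtop ▸ stable_commutator σ (stable_top σ) (stable_top σ)
  have hγs : Stable σ γ := stable_commutator σ hCs (stable_top σ)
  have hγC : γ ≤ C := commutator_le_left C ⊤
  set δ := ⁅γ, (⊤ : Subgroup P)⁆ with hδ
  have hδs : Stable σ δ := stable_commutator σ hγs (stable_top σ)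
  have hδγ : δ ≤ γ := commutator_le_left γ ⊤
  rcases eq_or_lt_of_le hδγ with he | hlt
  · -- a fixed point of commutation with the whole nilpotent group is trivial
    have hser : ∀ n, γ ≤ (⊤ : Subgroup P).lowerCentralSeries n := by
      intro n
      induction n with
      | zero => simp
      | succ n ih => rw [Subgroup.lowerCentralSeries_succ, ← he]; exact commutator_mono ih le_rfl
    obtain ⟨n, hn⟩ := Subgroup.nilpotent_iff_lowerCentralSeries.mp hnil
    exact le_bot_iff.mp (hn ▸ hser n)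
  exfalso
  -- a maximal stable `U`
  let S := {U : Subgroup P // δ ≤ U ∧ U < γ ∧ Stable σ U}
  haveI : Nonempty S := ⟨⟨δ, le_rfl, hlt, hδs⟩⟩
  obtain ⟨⟨U, hδU, hUγ, hUs⟩, hUmax⟩ := Finite.exists_max fun U : S => Nat.card U.1
  haveI hUn : U.Normal := normal_of_commutator_le hδU hUγ.le
  have hirr1 : ∀ L : Subgroup P, U ≤ L → L ≤ γ → Stable σ L → L = U ∨ L = γ := by
    intro L h1 h2 h3
    rcases eq_or_lt_of_le h2 with he | hl
    · exact Or.inr he
    · exact Or.inl (Subgroup.eq_of_le_of_card_ge h1 (hUmax ⟨L, hδU.trans h1, hl, h3⟩)).symm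
  -- the elements of `C` central modulo `U`
  set π := QuotientGroup.mk' U with hπ
  set W0 := C ⊓ (center (P ⧸ U)).comap π with hW0
  have hW0mem : ∀ w, w ∈ W0 ↔ w ∈ C ∧ ∀ v, ⁅w, v⁆ ∈ U := by
    intro w
    rw [hW0, mem_inf, mem_comap, mem_center_iff]
    refine and_congr_right fun _ => ⟨fun hw v => ?_, fun hw z => ?_⟩
    · refine (QuotientGroup.eq_one_iff _).mp ?_
      show π ⁅w, v⁆ = 1
      rw [map_commutatorElement, commutatorElement_eq_one_iff_mul_comm]
      exact (hw (π v)).symm
    · obtain ⟨v, rfl⟩ := QuotientGroup.mk'_surjective U z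
      have := (QuotientGroup.eq_one_iff _).mpr (hw v)
      change π ⁅w, v⁆ = 1 at this
      rw [map_commutatorElement, commutatorElement_eq_one_iff_mul_comm] at this
      exact this.symm
  have hW0s : Stable σ W0 := by
    intro w hw
    rw [hW0mem] at hw ⊢
    refine ⟨hCs w hw.1, fun v => ?_⟩
    have h1 := hUs _ (hw.2 (σ.symm v))
    rwa [map_commutatorElement, MulEquiv.apply_symm_apply] at h1
  have hγW0 : γ ≤ W0 := fun w hw => (hW0mem w).mpr
    ⟨hγC hw, fun v => hδU (commutator_mem_commutator hw (mem_top v))⟩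
  have hW0C : W0 < C := by
    refine lt_of_le_of_ne inf_le_left fun e => hUγ.not_ge ?_
    rw [hγ, commutator_le]
    intro w hw v _
    exact ((hW0mem w).mp (e ▸ hw)).2 v
  -- a minimal stable `X`
  let T := {X : Subgroup P // W0 < X ∧ X ≤ C ∧ Stable σ X}
  haveI : Nonempty T := ⟨⟨C, hW0C, le_rfl, hCs⟩⟩
  obtain ⟨⟨X, hWX, hXC, hXs⟩, hXmin⟩ := Finite.exists_min fun X : T => Nat.card X.1
  have hirr2 : ∀ L : Subgroup P, W0 ≤ L → L ≤ X → Stable σ L → L = W0 ∨ L = X := by
    intro L h1 h2 h3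
    rcases eq_or_lt_of_le h1 with he | hl
    · exact Or.inl he.symm
    · exact Or.inr (Subgroup.eq_of_le_of_card_ge h2 (hXmin ⟨L, hl, h2.trans hXC, h3⟩))
  haveI : W0.Normal := normal_of_commutator_le hγW0 (inf_le_left : W0 ≤ C)
  -- the two exponents
  obtain ⟨n, hn⟩ := h.exists_pow
  obtain ⟨l, hl0, hl⟩ := h.relIndex_pow hUγ
  obtain ⟨m, hm0, hm⟩ := h.relIndex_pow hWX
  have hln : p ^ l < p ^ n := hl ▸ hn ▸ h.central_lt hUγ.le hγC hδU
  have hmn : p ^ m < p ^ n := hm ▸ hn ▸ h.central_lt hWX.le hXC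
    ((commutator_mono hXC le_rfl).trans hγW0)
  set k := (p ^ l - 1) * (p ^ m - 1) with hk
  have hknd : ¬ C.index - 1 ∣ k := by
    rw [hn]
    exact not_dvd_sub_one_mul h.prime.two_le hl0 ((Nat.pow_lt_pow_iff_right h.prime.one_lt).mp hln)
      hm0 ((Nat.pow_lt_pow_iff_right h.prime.one_lt).mp hmn)
  set τ := σ ^ k with hτ
  have htriv1 : ∀ b ∈ γ, b⁻¹ * τ b ∈ U := by
    rw [hτ, hk, pow_mul]
    refine section_pow_pow (hUs.pow _) (hγs.pow _) (fun b hb => ?_) _
    rw [← hl]
    exact section_pow hUγ ((commutator_mono le_rfl le_top).trans hδU) hUs hγs hirr1 hb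
  have htriv2 : ∀ b ∈ X, b⁻¹ * τ b ∈ W0 := by
    rw [hτ, hk, mul_comm, pow_mul]
    refine section_pow_pow (hW0s.pow _) (hXs.pow _) (fun b hb => ?_) _
    rw [← hm]
    exact section_pow hWX ((commutator_mono hXC le_top).trans hγW0) hW0s hXs hirr2 hb
  -- the elements commuting with `X` modulo `U`
  set R := (centralizer (π '' (X : Set P))).comap π with hR
  have hcen : ∀ w ∈ X, ∀ v, π ⁅w, v⁆ ∈ center (P ⧸ U) := by
    intro w hw v
    rw [mem_center_iff]
    intro z
    obtain ⟨z, rfl⟩ := QuotientGroup.mk'_surjective U z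
    have h1 : ⁅w, v⁆ ∈ γ := commutator_mem_commutator (hXC hw) (mem_top v)
    have h2 : π ⁅⁅w, v⁆, z⁆ = 1 :=
      (QuotientGroup.eq_one_iff _).mpr (hδU (commutator_mem_commutator h1 (mem_top z)))
    rw [map_commutatorElement, commutatorElement_eq_one_iff_mul_comm] at h2
    exact h2.symm
  have hRu : ∀ u, u⁻¹ * τ u ∈ R := by
    intro u
    rw [hR, mem_comap, mem_centralizer_iff]
    rintro _ ⟨w, hw, rfl⟩
    rw [← commutatorElement_eq_one_iff_mul_comm]
    have h1 : π (τ ⁅w, u⁆) = π ⁅w, u⁆ := by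
      have := htriv1 _ (commutator_mem_commutator (hXC hw) (mem_top u))
      exact (QuotientGroup.eq.mpr this).symm
    have h2 : π (τ ⁅w, u⁆) = ⁅π w, π (τ u)⁆ := by
      obtain ⟨w0, hw0, hτw⟩ : ∃ w0 ∈ W0, τ w = w * w0 := ⟨w⁻¹ * τ w, htriv2 w hw, by group⟩
      have hz : π w0 ∈ center (P ⧸ U) := mem_comap.mp (mem_inf.mp (hW0 ▸ hw0 : w0 ∈ C ⊓ _)).2
      rw [map_commutatorElement, hτw, map_commutatorElement, map_mul,
        Cfsg.Lib.PGroups.mul_left_commutator,
        show ⁅π w0, π (τ u)⁆ = 1 from commutatorElement_eq_one_iff_mul_comm.mpr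
          (mem_center_iff.mp hz _).symm, mul_one, mul_inv_cancel, one_mul]
    rw [h1, map_commutatorElement] at h2
    have hc := hcen w hw (u⁻¹ * τ u)
    rw [map_commutatorElement] at hc
    have h3 := Cfsg.Lib.PGroups.commutator_mul_right_of_central (x := π w) (y := π u) hc
    rw [← map_mul, mul_inv_cancel_left, ← h2, left_eq_mul] at h3
    exact h3
  have hRtop : R = ⊤ := by
    refine Cfsg.Lib.InducedFamily.eq_top_of_sup_commutator R ?_
    haveI : Finite (P ⧸ C) := inferInstance
    let f : P ⧸ C → P ⧸ C := fun a => a⁻¹ * QuotientGroup.map C C τ.toMonoidHom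
      (fun x hx => hCs.pow k x hx) a
    have hinj : Function.Injective f := by
      intro a b e
      induction a using QuotientGroup.induction_on with
      | _ a =>
        induction b using QuotientGroup.induction_on with
        | _ b =>
          have e' : ((a⁻¹ * τ a : P) : P ⧸ C) = ((b⁻¹ * τ b : P) : P ⧸ C) := e
          refine QuotientGroup.eq.mpr (h.fpf k hknd (a⁻¹ * b) ?_)
          show _ ∈ C
          rw [← QuotientGroup.eq_one_iff]
          have hab : ∀ x y : P ⧸ C, x * y = y * x := by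
            intro x y
            induction x using QuotientGroup.induction_on with
            | _ x =>
              induction y using QuotientGroup.induction_on with
              | _ y =>
                rw [← QuotientGroup.mk_mul, ← QuotientGroup.mk_mul, QuotientGroup.eq,
                  show (x * y)⁻¹ * (y * x) = ⁅y⁻¹, x⁻¹⁆ by rw [commutatorElement_def]; group, hCtop]
                exact commutator_mem_commutator (mem_top _) (mem_top _)
          rw [← hτ, map_mul, map_inv]
          simp only [QuotientGroup.mk_mul, QuotientGroup.mk_inv] at e' ⊢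
          generalize ((τ a : P) : P ⧸ C) = c at e' ⊢
          generalize ((τ b : P) : P ⧸ C) = d at e' ⊢
          calc ((a : P ⧸ C)⁻¹ * (b : P ⧸ C))⁻¹ * (c⁻¹ * d)
              = (b : P ⧸ C)⁻¹ * (((a : P ⧸ C) * c⁻¹) * d) := by group
            _ = (b : P ⧸ C)⁻¹ * (((a : P ⧸ C)⁻¹ * c)⁻¹ * d) := by rw [hab (a : P ⧸ C) c⁻¹]; group
            _ = (b : P ⧸ C)⁻¹ * (((b : P ⧸ C)⁻¹ * d)⁻¹ * d) := by rw [e']
            _ = (b : P ⧸ C)⁻¹ * ((d⁻¹ * (b : P ⧸ C)) * d) := by group
            _ = 1 := by rw [hab d⁻¹ (b : P ⧸ C)]; group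
    rw [eq_top_iff]
    intro v _
    obtain ⟨a, ha⟩ := Finite.injective_iff_surjective.mp hinj (v : P ⧸ C)
    induction a using QuotientGroup.induction_on with
    | _ a =>
      have ha' : ((a⁻¹ * τ a : P) : P ⧸ C) = (v : P ⧸ C) := ha
      rw [show v = (a⁻¹ * τ a) * ((a⁻¹ * τ a)⁻¹ * v) by group]
      exact mul_mem (mem_sup_left (hRu a)) (mem_sup_right (QuotientGroup.eq.mp ha'))
  refine hWX.not_ge fun w hw => (hW0mem w).mpr ⟨hXC hw, fun v => ?_⟩
  have h1 : π v ∈ centralizer (π '' (X : Set P)) := mem_comap.mp (hR ▸ hRtop ▸ mem_top v)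
  have h2 : ⁅π w, π v⁆ = 1 :=
    commutatorElement_eq_one_iff_mul_comm.mpr (mem_centralizer_iff.mp h1 _ ⟨w, hw, rfl⟩)
  rw [← map_commutatorElement] at h2
  exact (QuotientGroup.eq_one_iff _).mp h2
where
  normal_of_commutator_le {A B : Subgroup P} (h1 : ⁅B, (⊤ : Subgroup P)⁆ ≤ A) (h2 : A ≤ B) :
      A.Normal := by
    refine ⟨fun a ha g => ?_⟩
    have h := inv_mem (h1 (commutator_mem_commutator (h2 ha) (mem_top g)))
    rw [commutatorElement_inv] at h
    rw [show g * a * g⁻¹ = ⁅g, a⁆ * a by rw [commutatorElement_def]; group]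
    exact mul_mem h ha

theorem Singer.pow_eq_one (h : Singer p σ) (x : P) : x ^ p = 1 := by
  haveI := Fact.mk h.prime
  have hc2 := h.class_two
  have hcen : commutator P ≤ center P := by
    rw [commutator_eq_bot_iff_le_centralizer, coe_top, centralizer_univ] at hc2
    exact hc2
  have hcc : ∀ a b : P, ⁅a, b⁆ ∈ commutator P := fun a b => by
    rw [_root_.commutator_def]; exact commutator_mem_commutator (mem_top a) (mem_top b)
  have hcp : ∀ a b : P, ⁅a, b⁆ ^ p = 1 := by
    intro a b
    have h1 : Commute ⁅a, b⁆ a := (mem_center_iff.mp (hcen (hcc a b)) a).symm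
    rw [← Cfsg.Lib.PGroups.commutator_pow_left_of_commute h1,
      commutatorElement_eq_one_iff_mul_comm]
    exact (mem_center_iff.mp (hcen (h.pow_mem a)) b).symm
  obtain ⟨j, hj⟩ := Cfsg.Lib.PGroups.dvd_choose_two h.prime h.odd
  let f : P →* P :=
    { toFun := fun a => a ^ p
      map_one' := one_pow p
      map_mul' := fun a b => by
        rw [Cfsg.Lib.PGroups.mul_pow_of_central (hcen (hcc b a)), hj, pow_mul, hcp, one_pow, mul_one] }
  have hker : commutator P ≤ f.ker := by
    rw [_root_.commutator_def, commutator_le]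
    intro a _ b _
    exact hcp a b
  by_cases hall : ∀ a, a ∉ commutator P → a ^ p ≠ 1
  · exfalso
    have heq : f.ker = commutator P := le_antisymm
      (fun a ha => by_contra fun hn => hall a hn ha) hker
    have hlt := h.central_lt (D := ⊥) (Z := commutator P) bot_le le_rfl hc2.le
    rw [relIndex_bot_left] at hlt
    refine hlt.not_ge ?_
    rw [← heq, index_ker, heq]
    exact Nat.card_le_card_of_injective
      (Subgroup.inclusion (by rintro _ ⟨a, rfl⟩; exact h.pow_mem a : f.range ≤ commutator P))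
      (Subgroup.inclusion_injective _)
  · push Not at hall
    obtain ⟨a, ha, hap⟩ := hall
    by_cases hx : x ∈ commutator P
    · exact hker hx
    obtain ⟨k, hk⟩ := h.trans a x ha hx
    have h1 : f (((σ ^ k) a)⁻¹ * x) = 1 := hker hk
    rw [map_mul, map_inv] at h1
    have h2 : f ((σ ^ k) a) = 1 := by
      show ((σ ^ k) a) ^ p = 1
      rw [← map_pow, hap, map_one]
    rw [h2, inv_one, one_mul] at h1
    exact h1

end Cfsg.Lib.Chars.OneNonvanishing
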