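import Mathlib
import Cfsg.Agent.Chars.OneNonvanishing.Basic
import Cfsg.Agent.Chars.OneNonvanishing.Class2
import Cfsg.Agent.Camina.Pair
import Cfsg.Agent.Splitting.Basic
import Cfsg.Agent.S0205

/-!
# An element seen by one nonlinear irreducible character: solvability
-/

set_option autoImplicit false
set_option linter.unusedSectionVars false
set_option linter.style.haveILetI false

namespace Cfsg.Lib.Chars.OneNonvanishing

open Subgroup
open scoped commutatorElement

universe u

variable {G : Type u} [Group G] [Finite G] {g : G} {K : Subgroup G} [K.Normal]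

/-- `G'` is `K` together with the class of `g`, and what is central modulo `K` lies in `G'`. -/
structure Split (g : G) (K : Subgroup G) : Prop where
  le : K ≤ _root_.commutator G
  mem : g ∈ _root_.commutator G
  not_mem : g ∉ K
  conj : ∀ x ∈ _root_.commutator G, x ∉ K → IsConj g x
  central : ∀ z : G, (∀ x, ⁅z, x⁆ ∈ K) → z ∈ _root_.commutator G

theorem mk_eq_one {x : G} : QuotientGroup.mk' K x = 1 ↔ x ∈ K := QuotientGroup.eq_one_iff x

theorem Split.oneClass (h : Split g K) :
    OneClass ((_root_.commutator G).map (QuotientGroup.mk' K)) := by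
  rintro _ ⟨u, hu, rfl⟩ _ ⟨v, hv, rfl⟩ hu1 hv1
  exact MonoidHom.map_isConj _ ((h.conj u hu fun hh => hu1 (mk_eq_one.mpr hh)).symm.trans
    (h.conj v hv fun hh => hv1 (mk_eq_one.mpr hh)))

theorem Split.map_ne_bot (h : Split g K) :
    (_root_.commutator G).map (QuotientGroup.mk' K) ≠ ⊥ := fun e =>
  h.not_mem (mk_eq_one.mp (mem_bot.mp (e ▸ mem_map_of_mem _ h.mem)))

theorem map_comap_self (h : K ≤ _root_.commutator G) {x : G}
    (hx : QuotientGroup.mk' K x ∈ (_root_.commutator G).map (QuotientGroup.mk' K)) :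
    x ∈ _root_.commutator G := by
  have h1 := mem_comap.mpr hx
  rwa [comap_map_eq, QuotientGroup.ker_mk', sup_eq_left.mpr h] at h1

theorem Split.not_mem_of_conj (h : Split g K) {x : G} (hx : IsConj g x) : x ∉ K := fun hxK => by
  obtain ⟨c, hc⟩ := isConj_iff.mp hx.symm
  exact h.not_mem (hc ▸ (inferInstance : K.Normal).conj_mem x hxK c)

theorem Split.isPElement (h : Split g K) {p : ℕ} (hp : p.Prime)
    (hpow : ∀ x ∈ _root_.commutator G, x ^ p ∈ K) : ∃ k, g ^ p ^ k = 1 := by
  set a := (orderOf g).factorization p with ha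
  set m := orderOf g / p ^ a with hm
  have hgm : g ^ m ∉ K := by
    intro hmK
    have h1 : orderOf (QuotientGroup.mk' K g) ∣ m :=
      orderOf_dvd_of_pow_eq_one (by rw [← map_pow]; exact mk_eq_one.mpr hmK)
    have h2 : orderOf (QuotientGroup.mk' K g) ∣ p :=
      orderOf_dvd_of_pow_eq_one (by rw [← map_pow]; exact mk_eq_one.mpr (hpow g h.mem))
    have h3 : Nat.Coprime p m :=
      hp.coprime_iff_not_dvd.mpr (Nat.not_dvd_ordCompl hp (orderOf_pos g).ne')
    exact h.not_mem (mk_eq_one.mp (orderOf_eq_one_iff.mp (Nat.eq_one_of_dvd_coprimes h3 h2 h1)))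
  obtain ⟨c, hc⟩ := isConj_iff.mp (h.conj _ (pow_mem h.mem m) hgm).symm
  refine ⟨a, ?_⟩
  rw [← hc, conj_pow, ← pow_mul,
    show m * p ^ a = orderOf g by rw [mul_comm]; exact Nat.ordProj_mul_ordCompl_eq_self _ _,
    pow_orderOf_eq_one, mul_one, mul_inv_cancel]

/-- The data of a `p`-group to which the class two argument applies. -/
theorem Split.singer (h : Split g K) {p : ℕ} (hp : p.Prime) (hp2 : p ≠ 2)
    (hpow : ∀ x ∈ _root_.commutator G, x ^ p ∈ K) (hgp : ∃ k, g ^ p ^ k = 1) :
    g ^ p = 1 := by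
  classical
  haveI := Fact.mk hp
  set N := _root_.commutator G with hN
  set π := QuotientGroup.mk' K with hπ
  set Q := N.map π with hQ
  haveI : Q.Normal := Normal.map inferInstance _ (QuotientGroup.mk'_surjective K)
  have hQp : IsPGroup p Q := by
    rintro ⟨_, x, hx, rfl⟩
    refine ⟨1, Subtype.ext ?_⟩
    rw [pow_one, SubmonoidClass.coe_pow, OneMemClass.coe_one, ← map_pow]
    exact mk_eq_one.mpr (hpow x hx)
  have hQ2 : 2 < Nat.card Q := by
    have h1 : 1 < Nat.card Q := (one_lt_card_iff_ne_bot Q).mpr h.map_ne_bot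
    obtain ⟨j, hj⟩ := IsPGroup.iff_card.mp hQp
    have hj0 : j ≠ 0 := fun e => by rw [hj, e, pow_zero] at h1; omega
    have := hp.two_le
    calc 2 < p := by omega
      _ ≤ p ^ j := Nat.le_self_pow hj0 p
      _ = Nat.card Q := hj.symm
  have hder : _root_.commutator (G ⧸ K) ≤ Q := by
    rw [_root_.commutator_def, commutator_le]
    intro a _ b _
    obtain ⟨a, rfl⟩ := QuotientGroup.mk'_surjective K a
    obtain ⟨b, rfl⟩ := QuotientGroup.mk'_surjective K b
    rw [← map_commutatorElement]
    exact mem_map_of_mem _ (commutator_mem_commutator (mem_top a) (mem_top b))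
  have hZ : center (G ⧸ K) ≤ Q := by
    intro z hz
    obtain ⟨z, rfl⟩ := QuotientGroup.mk'_surjective K z
    refine mem_map_of_mem _ (h.central z fun x => mk_eq_one.mp ?_)
    rw [map_commutatorElement, commutatorElement_eq_one_iff_mul_comm]
    exact (mem_center_iff.mp hz _).symm
  obtain ⟨hcent, hidx, hcyc⟩ := structure_of_gt_two (Q := Q) h.oneClass hder hZ hQ2
  obtain ⟨-, -, -, -, hQab⟩ := exists_prime_pow (Q := Q) h.oneClass h.map_ne_bot
  set q := Nat.card Q with hq
  have hNidx : N.index = q - 1 := by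
    rw [← hidx, hQ, index_map_eq _ (QuotientGroup.mk'_surjective K)
      (by rw [QuotientGroup.ker_mk']; exact h.le)]
  have hcardN : Nat.card N = Nat.card K * q := by
    have h1 := relIndex_mul_relIndex ⊥ K N bot_le h.le
    have h2 := relIndex_ker (K := N) π
    rw [hπ, QuotientGroup.ker_mk'] at h2
    rw [relIndex_bot_left, relIndex_bot_left, h2] at h1
    exact h1.symm
  -- the centraliser of `g` has order `q`
  have hC : ∀ x ∈ N, x ∉ K → Nat.card (centralizer ({x} : Set G)) = q := by
    intro x hx hxK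
    have hgx := h.conj x hx hxK
    have hcls : Nat.card {y : G // IsConj x y} = Nat.card N - Nat.card K := by
      haveI := Fintype.ofFinite N
      rw [Nat.card_congr (show {y : G // IsConj x y} ≃ {y : N // y ∉ K.subgroupOf N} from
        { toFun := fun y => ⟨⟨y, by
            obtain ⟨c, hc⟩ := isConj_iff.mp y.2
            rw [← hc]; exact (inferInstance : N.Normal).conj_mem x hx c⟩,
            fun hy => h.not_mem_of_conj (hgx.trans y.2) (mem_subgroupOf.mp hy)⟩
          invFun := fun y => ⟨y.1, hgx.symm.trans (h.conj _ y.1.2 fun hh => y.2 (mem_subgroupOf.mpr hh))⟩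
          left_inv := fun _ => rfl
          right_inv := fun _ => rfl }), Nat.card_eq_fintype_card, Fintype.card_subtype_compl,
        ← Nat.card_eq_fintype_card, ← Nat.card_eq_fintype_card]
      congr 1
      exact Nat.card_congr (subgroupOfEquivOfLe h.le).toEquiv
    have h1 := card_isConj_mul x
    rw [hcls, hcardN, ← N.card_mul_index, hcardN, hNidx, ← Nat.mul_sub_one,
      show Nat.card K * q * (q - 1) = Nat.card K * (q - 1) * q by ring] at h1
    exact Nat.eq_of_mul_eq_mul_left (Nat.mul_pos Nat.card_pos (by omega)) h1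
  -- a Sylow subgroup of `N` containing `g`
  have hgpg : IsPGroup p (zpowers (⟨g, h.mem⟩ : N)) := by
    obtain ⟨k, hk⟩ := hgp
    obtain ⟨j, -, hj⟩ := (Nat.dvd_prime_pow hp).mp (orderOf_dvd_of_pow_eq_one hk)
    exact IsPGroup.of_card (by rw [Nat.card_zpowers, ← Subgroup.orderOf_coe, hj])
  obtain ⟨S, hgS⟩ := hgpg.exists_le_sylow
  set P := (S : Subgroup N).map N.subtype with hP
  have hPN : P ≤ N := map_subtype_le _
  have hgP : g ∈ P := ⟨⟨g, h.mem⟩, hgS (mem_zpowers _), rfl⟩
  have hPp : IsPGroup p P := S.2.map _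
  set P0 := K.subgroupOf P with hP0
  have hPmap : P.map π = Q := by
    let πN : N →* Q := (π.comp N.subtype).codRestrict Q fun x => mem_map_of_mem _ x.2
    have hπN : Function.Surjective πN := by
      rintro ⟨_, x, hx, rfl⟩
      exact ⟨⟨x, hx⟩, rfl⟩
    have htop : (S : Subgroup N).map πN = ⊤ := by
      have hT : IsPGroup p (⊤ : Subgroup Q) := hQp.to_subgroup ⊤
      have := (Sylow.mapSurjective hπN S).3 hT le_top
      rw [Sylow.coe_mapSurjective] at this
      exact this.symm
    refine le_antisymm (map_mono hPN) ?_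
    rintro y hy
    obtain ⟨x, hx, hxy⟩ := htop.ge (mem_top (⟨y, hy⟩ : Q))
    exact ⟨x, ⟨x, hx, rfl⟩, congrArg Subtype.val hxy⟩
  have hP0idx : P0.index = q := by
    have := relIndex_ker (K := P) π
    rwa [hπ, QuotientGroup.ker_mk', ← hπ, hPmap] at this
  have hder' : _root_.commutator P ≤ P0 := by
    rw [_root_.commutator_def, commutator_le]
    intro a _ b _
    refine mem_subgroupOf.mpr (mk_eq_one.mp ?_)
    rw [show ((⁅a, b⁆ : P) : G) = ⁅(a : G), (b : G)⁆ from map_commutatorElement P.subtype a b,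
      map_commutatorElement, commutatorElement_eq_one_iff_mul_comm]
    exact hQab _ (mem_map_of_mem _ (hPN a.2)) _ (mem_map_of_mem _ (hPN b.2))
  have hcoset : ∀ x : P, x ∉ P0 → ∀ c ∈ P0, ∃ v : P, v * x * v⁻¹ = x * c := by
    intro x hx c hc
    let F : {y : P // IsConj x y} → P0 := fun y => ⟨x⁻¹ * y, by
      obtain ⟨v, hv⟩ := isConj_iff.mp y.2
      refine hder' ?_
      rw [← hv, show x⁻¹ * (v * x * v⁻¹) = ⁅x⁻¹, v⁆ by rw [commutatorElement_def]; group,
        _root_.commutator_def]
      exact commutator_mem_commutator (mem_top _) (mem_top _)⟩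
    have hFi : Function.Injective F := fun a b e =>
      Subtype.ext (mul_left_cancel (congrArg Subtype.val e))
    have hle : Nat.card P0 ≤ Nat.card {y : P // IsConj x y} := by
      have hCx : Nat.card (centralizer ({x} : Set P)) ≤ q := by
        rw [← hC x (hPN x.2) (fun hh => hx (mem_subgroupOf.mpr hh))]
        refine Nat.card_le_card_of_injective (fun v => ⟨((v : P) : G), mem_centralizer_singleton_iff.mpr
          (congrArg Subtype.val (mem_centralizer_singleton_iff.mp v.2))⟩) fun a b e => ?_
        exact Subtype.ext (Subtype.ext (congrArg Subtype.val e :))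
      have h1 := card_isConj_mul x
      rw [← P0.card_mul_index, hP0idx] at h1
      by_contra hlt
      have h2 : Nat.card {y : P // IsConj x y} * Nat.card (centralizer ({x} : Set P)) <
          Nat.card P0 * q :=
        lt_of_le_of_lt (Nat.mul_le_mul_left _ hCx)
          (Nat.mul_lt_mul_of_pos_right (not_le.mp hlt) (by omega))
      omega
    obtain ⟨y, hy⟩ := (hFi.bijective_of_nat_card_le hle).2 ⟨c, hc⟩
    obtain ⟨v, hv⟩ := isConj_iff.mp y.2
    exact ⟨v, by rw [hv, ← show x⁻¹ * (y : P) = c from congrArg Subtype.val hy, mul_inv_cancel_left]⟩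
  have hP0' : P0 = _root_.commutator P := by
    refine le_antisymm (fun c hc => ?_) hder'
    have hgP0 : (⟨g, hgP⟩ : P) ∉ P0 := fun hh => h.not_mem (mem_subgroupOf.mp hh)
    obtain ⟨v, hv⟩ := hcoset _ hgP0 c hc
    have : c = ⁅(⟨g, hgP⟩ : P)⁻¹, v⁆ := by
      rw [eq_inv_mul_of_mul_eq hv.symm, commutatorElement_def]; group
    rw [this, _root_.commutator_def]
    exact commutator_mem_commutator (mem_top _) (mem_top _)
  -- the automorphism
  obtain ⟨z, hz⟩ := hcyc.exists_generator
  obtain ⟨z1, rfl⟩ := QuotientGroup.mk'_surjective Q z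
  obtain ⟨y0, rfl⟩ := QuotientGroup.mk'_surjective K z1
  have hfr : y0 ∈ normalizer (P : Set G) ⊔ N := (Sylow.normalizer_sup_eq_top S).ge (mem_top y0)
  rw [← SetLike.mem_coe, mul_normal] at hfr
  obtain ⟨y, hy, n, hn, hyn⟩ := hfr
  have hygen : QuotientGroup.mk' Q (π y) = QuotientGroup.mk' Q (π y0) := by
    refine QuotientGroup.eq.mpr ?_
    rw [← hyn, ← map_inv, ← map_mul, inv_mul_cancel_left]
    exact mem_map_of_mem _ hn
  have hordy : orderOf (QuotientGroup.mk' Q (π y)) = q - 1 := by
    rw [hygen, orderOf_eq_card_of_forall_mem_zpowers hz, ← Subgroup.index_eq_card, hidx]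
  set σ : MulAut P := P.normalizerMonoidHom ⟨y, hy⟩ with hσ
  have hσk : ∀ (k : ℕ) (v : P), (((σ ^ k) v : P) : G) = y ^ k * v * (y ^ k)⁻¹ := fun k v => by
    rw [hσ, ← map_pow]
    rfl
  have hS : Singer p σ := by
    refine
      { prime := hp, odd := hp2, pgroup := hPp, top_ne := ?_, pow_mem := ?_, coset := ?_,
        fpf := ?_, trans := ?_ }
    · intro e
      have : (_root_.commutator P).index = 1 := Subgroup.index_eq_one.mpr e
      rw [← hP0', hP0idx] at this
      omega
    · intro a
      rw [← hP0']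
      exact mem_subgroupOf.mpr (hpow a (hPN a.2))
    · rw [← hP0']; exact hcoset
    · intro k hk v hv
      rw [← hP0', hP0idx] at hk
      rw [← hP0', mem_subgroupOf] at hv ⊢
      by_contra hvK
      rw [← mk_eq_one] at hv
      rw [Subgroup.coe_mul, Subgroup.coe_inv, hσk, map_mul, map_inv, map_mul, map_mul, map_inv,
        map_pow, inv_mul_eq_one] at hv
      have hmem : π y ^ k ∈ Q := by
        rw [← hcent _ (mem_map_of_mem _ (hPN v.2)) (fun e => hvK (mk_eq_one.mp e)),
          mem_centralizer_singleton_iff]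
        exact mul_inv_eq_iff_eq_mul.mp hv.symm
      refine hk (hordy ▸ orderOf_dvd_of_pow_eq_one ?_)
      rw [← map_pow]
      exact (QuotientGroup.eq_one_iff _).mpr hmem
    · intro u v hu hv
      rw [← hP0'] at hu hv ⊢
      have huQ := mem_map_of_mem π (hPN u.2)
      have hvQ := mem_map_of_mem π (hPN v.2)
      obtain ⟨c, hc⟩ := isConj_iff.mp (h.oneClass _ huQ _ hvQ
        (fun e => hu (mem_subgroupOf.mpr (mk_eq_one.mp e)))
        (fun e => hv (mem_subgroupOf.mpr (mk_eq_one.mp e))))
      have hcz : QuotientGroup.mk' Q c ∈ Submonoid.powers (QuotientGroup.mk' Q (π y)) := by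
        rw [(isOfFinOrder_of_finite _).mem_powers_iff_mem_zpowers, hygen]
        exact hz _
      obtain ⟨k, hk⟩ := hcz
      refine ⟨k, mem_subgroupOf.mpr (mk_eq_one.mp ?_)⟩
      simp only at hk
      rw [← map_pow] at hk
      have hd : (π y ^ k)⁻¹ * c ∈ Q := QuotientGroup.eq.mp hk
      rw [Subgroup.coe_mul, Subgroup.coe_inv, hσk, map_mul, map_inv, map_mul, map_mul, map_inv,
        map_pow, inv_mul_eq_one, ← hc]
      have hcomm := hQab _ hd _ huQ
      calc π y ^ k * π (u : G) * (π y ^ k)⁻¹
          = π y ^ k * (π (u : G) * ((π y ^ k)⁻¹ * c)) * c⁻¹ := by group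
        _ = π y ^ k * (((π y ^ k)⁻¹ * c) * π (u : G)) * c⁻¹ := by rw [hcomm]
        _ = c * π (u : G) * c⁻¹ := by group
  have := congrArg Subtype.val (hS.pow_eq_one ⟨g, hgP⟩)
  simpa using this

theorem Split.solvable (h : Split g K) : Group.IsSolvable G := by
  classical
  set N := _root_.commutator G with hN
  haveI : (N.map (QuotientGroup.mk' K)).Normal :=
    Normal.map inferInstance _ (QuotientGroup.mk'_surjective K)
  obtain ⟨p, hp, hpowQ, -, hQab⟩ := exists_prime_pow h.oneClass h.map_ne_bot
  haveI := Fact.mk hp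
  have hpow : ∀ x ∈ N, x ^ p ∈ K := fun x hx =>
    mk_eq_one.mp (by rw [map_pow]; exact hpowQ _ (mem_map_of_mem _ hx))
  have hgp := h.isPElement hp hpow
  have hK : Group.IsSolvable K := by
    by_cases hp2 : p = 2
    · -- a normal `2`-complement in `K`
      subst hp2
      have hg : ∀ n ∈ K, ∃ x : G, x * g * x⁻¹ = g * n := fun n hn =>
        isConj_iff.mp (h.conj _ (mul_mem h.mem (h.le hn))
          fun hh => h.not_mem ((mul_mem_cancel_right hn).mp hh))
      have hodd := Cfsg.Lib.Camina.not_dvd_card_coPart_of_elt hp hgp hg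
      set M := Cfsg.Lib.Camina.coPart 2 K with hM
      have hMs : Group.IsSolvable M :=
        Cfsg.Agent.S0205.result (Nat.odd_iff.mpr (Nat.two_dvd_ne_zero.mp hodd))
      have hMK : M ≤ K := Cfsg.Lib.Camina.coPart_le 2 K
      have hq : IsPGroup 2 (K ⧸ M.subgroupOf K) := by
        intro z
        obtain ⟨z, rfl⟩ := QuotientGroup.mk'_surjective _ z
        obtain ⟨k, hk⟩ := Cfsg.Lib.Camina.exists_pow_mem_coPart hp z.2
        exact ⟨k, by rw [← map_pow]; exact (QuotientGroup.eq_one_iff _).mpr hk⟩
      haveI := hq.isNilpotent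
      haveI : Group.IsSolvable (K ⧸ M.subgroupOf K) := inferInstance
      haveI := hMs
      haveI : Group.IsSolvable (M.subgroupOf K) :=
        Group.isSolvable_of_isSolvable_injective (f := (subgroupOfEquivOfLe hMK).toMonoidHom)
          (MulEquiv.injective _)
      exact Group.isSolvable_iff_subgroup_quotient (M.subgroupOf K) |>.mpr ⟨inferInstance, inferInstance⟩
    · have hgpow := h.singer hp hp2 hpow hgp
      haveI : Group.IsNilpotent K := by
        refine Cfsg.Lib.Splitting.isNilpotent_of_split (p := p) (a := g) fun x hx => ?_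
        obtain ⟨c, hc⟩ := isConj_iff.mp (h.conj _ (mul_mem (h.le hx) h.mem)
          fun hh => h.not_mem ((mul_mem_cancel_left hx).mp hh))
        rw [← hc, conj_pow, hgpow, mul_one, mul_inv_cancel]
      infer_instance
  haveI := hK
  haveI hQs : Group.IsSolvable (N.map (QuotientGroup.mk' K)) :=
    Group.isSolvable_of_comm fun a b => Subtype.ext (hQab a a.2 b b.2)
  have hq : Group.IsSolvable (G ⧸ K) := by
    haveI : Group.IsSolvable ((G ⧸ K) ⧸ N.map (QuotientGroup.mk' K)) := by
      refine Group.isSolvable_of_comm fun a b => ?_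
      induction a using QuotientGroup.induction_on with
      | _ a =>
        induction b using QuotientGroup.induction_on with
        | _ b =>
          obtain ⟨a, rfl⟩ := QuotientGroup.mk'_surjective K a
          obtain ⟨b, rfl⟩ := QuotientGroup.mk'_surjective K b
          rw [← QuotientGroup.mk_mul, ← QuotientGroup.mk_mul, QuotientGroup.eq, ← map_mul, ← map_mul,
            ← map_inv, ← map_mul,
            show (a * b)⁻¹ * (b * a) = ⁅b⁻¹, a⁻¹⁆ by rw [commutatorElement_def]; group]
          exact mem_map_of_mem _ (commutator_mem_commutator (mem_top _) (mem_top _))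
    exact (Group.isSolvable_iff_subgroup_quotient (N.map (QuotientGroup.mk' K))).mpr
      ⟨inferInstance, inferInstance⟩
  exact (Group.isSolvable_iff_subgroup_quotient K).mpr ⟨hK, hq⟩

end Cfsg.Lib.Chars.OneNonvanishing
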